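import Mathlib

set_option autoImplicit false
universe u

open HomogeneousLocalization

namespace Groth.Agent.Veron8

theorem away_equiv {R A : Type u} [CommRing R] [CommRing A] [Algebra R A] (𝒜 : ℕ → Submodule R A) [GradedAlgebra 𝒜]
    {B : Type u} [CommRing B] [Algebra R B] (ℬ : ℕ → Submodule R B) [GradedAlgebra ℬ]
    (d : ℕ) (φ : B →ₐ[R] A) (hφ : Function.Injective φ)
    (hdeg : ∀ n : ℕ, Submodule.map φ.toLinearMap (ℬ n) = 𝒜 (n * d)) (f' : B) (hf' : f' ∈ ℬ 1) :
    ∃ e : HomogeneousLocalization.Away 𝒜 (φ f') ≃+* B ⧸ Ideal.span {f' - 1},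
      ∀ (n : ℕ) (x : B), x ∈ ℬ n →
        (e.symm (Ideal.Quotient.mk (Ideal.span {f' - 1}) x)).val =
          Localization.mk (φ x) ⟨φ f' ^ n, pow_mem (Submonoid.mem_powers (φ f')) n⟩ := by
  classical
  have hmem : ∀ {n : ℕ} {x : B}, x ∈ ℬ n → φ x ∈ 𝒜 (n * d) := fun {n x} hx => hdeg n ▸ Submodule.mem_map_of_mem hx
  have hf : φ f' ∈ 𝒜 d := by simpa using hmem hf'
  let c : ∀ n, ℬ n →+ Away 𝒜 (φ f') := fun n =>
    { toFun := fun x => Away.mk 𝒜 hf n (φ x) (by rw [smul_eq_mul]; exact hmem x.2)
      map_zero' := val_injective _ (by rw [Away.val_mk, HomogeneousLocalization.val_zero]; simp [Localization.mk_zero])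
      map_add' := fun x y => val_injective _ (by
        rw [HomogeneousLocalization.val_add, Away.val_mk, Away.val_mk, Away.val_mk, Localization.add_mk_self]
        simp) }
  have hc : ∀ n (x : ℬ n), (c n x).val = Localization.mk (φ x) ⟨φ f' ^ n, pow_mem (Submonoid.mem_powers (φ f')) n⟩ := fun n x =>
    Away.val_mk 𝒜 n hf _ _
  let θ : B →+* Away 𝒜 (φ f') := (DirectSum.toSemiring c
    (val_injective _ (by
      rw [hc, HomogeneousLocalization.val_one, ← Localization.mk_one]
      congr 1
      · exact map_one φ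
      · exact Subtype.ext (pow_zero _)))
    (fun {i j} a b => val_injective _ (by
      rw [HomogeneousLocalization.val_mul, hc, hc, hc, Localization.mk_mul]
      congr 1
      · exact map_mul φ _ _
      · exact Subtype.ext (pow_add _ _ _)))).comp (DirectSum.decomposeRingEquiv ℬ).toRingHom
  have hθ : ∀ n x (hx : x ∈ ℬ n), θ x = c n ⟨x, hx⟩ := by
    intro n x hx
    rw [RingHom.comp_apply]
    erw [DirectSum.decompose_of_mem ℬ hx, DirectSum.toSemiring_of]
  have hθv : ∀ n x, x ∈ ℬ n → (θ x).val = Localization.mk (φ x) ⟨φ f' ^ n, pow_mem (Submonoid.mem_powers (φ f')) n⟩ := fun n x hx => by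
    rw [hθ n x hx, hc]
  have hsurj : Function.Surjective θ := by
    intro z
    obtain ⟨n, a, ha, rfl⟩ := Away.mk_surjective 𝒜 hf z
    have ha' := ha
    rw [smul_eq_mul, ← hdeg n] at ha'
    obtain ⟨x, hx, hxa⟩ := ha'
    refine ⟨x, val_injective _ ?_⟩
    rw [hθv n x hx, Away.val_mk]
    congr 1
  have hf1 : θ f' = 1 := val_injective _ (by
    rw [hθv 1 f' hf', HomogeneousLocalization.val_one, Localization.mk_eq_mk']
    exact (IsLocalization.mk'_eq_iff_eq_mul).mpr (by simp))
  have hker : RingHom.ker θ = Ideal.span {f' - 1} := by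
    refine le_antisymm (fun x hx => ?_) ?_
    · let s := (DirectSum.decompose ℬ x).support
      let N := s.sup id
      let y : B := ∑ i ∈ s, f' ^ (N - i) * (DirectSum.decompose ℬ x i : B)
      have hy : y ∈ ℬ N := by
        refine Submodule.sum_mem _ fun i hi => ?_
        have hle : i ≤ N := Finset.le_sup (f := id) hi
        have h1 : f' ^ (N - i) ∈ ℬ (N - i) := by simpa using SetLike.pow_mem_graded (N - i) hf'
        have := SetLike.mul_mem_graded h1 (DirectSum.decompose ℬ x i).2
        rwa [Nat.sub_add_cancel hle] at this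
      have hcong : Ideal.Quotient.mk (Ideal.span {f' - 1}) y = Ideal.Quotient.mk (Ideal.span {f' - 1}) x := by
        conv_rhs => rw [← DirectSum.sum_support_decompose ℬ x]
        simp only [y, s, map_sum, map_mul, map_pow]
        refine Finset.sum_congr rfl fun i _ => ?_
        rw [(Ideal.Quotient.eq.mpr (Ideal.mem_span_singleton_self _) : Ideal.Quotient.mk (Ideal.span {f' - 1}) f' = Ideal.Quotient.mk _ 1)]
        simp
      have hy0 : θ y = 0 := by
        rw [RingHom.mem_ker] at hx
        rw [← hx]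
        conv_rhs => rw [← DirectSum.sum_support_decompose ℬ x]
        simp only [y, s, map_sum, map_mul, map_pow, hf1, one_pow, one_mul]
      have h1 := hθv N y hy
      rw [hy0, HomogeneousLocalization.val_zero, Localization.mk_eq_mk', eq_comm, IsLocalization.mk'_eq_zero_iff] at h1
      obtain ⟨⟨_, m, rfl⟩, hm⟩ := h1
      have h2 : f' ^ m * y = 0 := hφ (by rw [map_mul, map_pow, map_zero]; exact hm)
      rw [← Ideal.Quotient.eq_zero_iff_mem, ← hcong]
      have h3 := congrArg (Ideal.Quotient.mk (Ideal.span {f' - 1})) h2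
      rw [map_mul, map_pow, map_zero,
        (Ideal.Quotient.eq.mpr (Ideal.mem_span_singleton_self _) : Ideal.Quotient.mk (Ideal.span {f' - 1}) f' = Ideal.Quotient.mk _ 1),
        map_one, one_pow, one_mul] at h3
      exact h3
    · rw [Ideal.span_singleton_le_iff_mem, RingHom.mem_ker, map_sub, hf1, map_one, sub_self]
  let e := ((RingHom.quotientKerEquivOfSurjective hsurj).symm.trans (Ideal.quotEquivOfEq hker))
  refine ⟨e, fun n x hx => ?_⟩
  have : e.symm (Ideal.Quotient.mk (Ideal.span {f' - 1}) x) = θ x := by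
    apply e.injective
    rw [RingEquiv.apply_symm_apply]
    show _ = Ideal.quotEquivOfEq hker ((RingHom.quotientKerEquivOfSurjective hsurj).symm (θ x))
    have h4 : (RingHom.quotientKerEquivOfSurjective hsurj).symm (θ x) = Ideal.Quotient.mk _ x := by
      apply (RingHom.quotientKerEquivOfSurjective hsurj).injective
      rw [RingEquiv.apply_symm_apply]
      rfl
    rw [h4]
    rfl
  rw [this, hθv n x hx]

end Groth.Agent.Veron8
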